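import Groth.Agent.Lib.AbRigid.Shear
import Groth.Agent.Lib.Descend.BaseChangeAt
import Groth.Agent.Lib.FppfSource.Scheme
import Groth.Agent.Lib.FibDim14.BaseChange
import Mathlib.CategoryTheory.Monoidal.Cartesian.Over

/-!
# Properties of homomorphisms which hold on a nonempty open
-/

universe u

open CategoryTheory Limits MonoidalCategory CartesianMonoidalCategory AlgebraicGeometry
open scoped MonObj GrpObj

set_option linter.style.haveILetI false
set_option backward.isDefEq.respectTransparency false

namespace Groth.Agent.GrpAtPt20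

variable {S : Scheme.{u}} [Subsingleton S] {G H : Over S} [GrpObj G] [GrpObj H] (u : G ⟶ H) [IsMonHom u]
  (W : G.left.Opens) (hW : (W : Set G.left).Nonempty)

include hW in
/-- Above every point of `G`, the base change of `u` along the projection has any base change stable
property that `u` has on a nonempty open. -/
theorem exists_nhd (P : MorphismProperty Scheme.{u}) [P.IsStableUnderBaseChange] (hP : P (W.ι ≫ u.left))
    (x : G.left) :
    ∃ v : (G ⊗ G).left, (fst G G).left v = x ∧
      ∃ V : (G ⊗ G).left.Opens, v ∈ V ∧ P (V.ι ≫ (u ▷ G).left) := by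
  haveI : P.RespectsIso := inferInstance
  let τ : G ⊗ G ≅ G ⊗ G :=
    { hom := lift ((snd G G)⁻¹ * fst G G) (snd G G)
      inv := lift (snd G G * fst G G) (snd G G)
      hom_inv_id := by
        apply CartesianMonoidalCategory.hom_ext <;> simp [MonObj.comp_mul]
      inv_hom_id := by
        apply CartesianMonoidalCategory.hom_ext <;> simp [MonObj.comp_mul, GrpObj.comp_inv] }
  let σ : H ⊗ G ≅ H ⊗ G :=
    { hom := lift ((snd H G ≫ u)⁻¹ * fst H G) (snd H G)
      inv := lift ((snd H G ≫ u) * fst H G) (snd H G)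
      hom_inv_id := by
        apply CartesianMonoidalCategory.hom_ext <;> simp [MonObj.comp_mul]
      inv_hom_id := by
        apply CartesianMonoidalCategory.hom_ext <;> simp [MonObj.comp_mul, GrpObj.comp_inv] }
  have hcomm : (u ▷ G) ≫ σ.hom = τ.hom ≫ (u ▷ G) := by
    apply CartesianMonoidalCategory.hom_ext <;>
      simp [σ, τ, MonObj.comp_mul, MonObj.mul_comp, GrpObj.comp_inv, GrpObj.inv_comp]
  haveI hτ : IsIso τ.hom.left := inferInstanceAs (IsIso ((Over.forget S).mapIso τ).hom)
  haveI hσ : IsIso σ.inv.left := inferInstanceAs (IsIso ((Over.forget S).mapIso σ).inv)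
  let O : (G ⊗ G).left.Opens := (fst G G).left ⁻¹ᵁ W
  have sq := (AbRigid.isPullback_whiskerRight u G).map (Over.forget S)
  have hO : P (O.ι ≫ (u ▷ G).left) :=
    MorphismProperty.of_isPullback
      ((isPullback_morphismRestrict (fst G G).left W).paste_vert sq) hP
  let V : (G ⊗ G).left.Opens := τ.hom.left ⁻¹ᵁ O
  have hV : P (V.ι ≫ (u ▷ G).left) := by
    have e : V.ι ≫ (u ▷ G).left = (τ.hom.left ∣_ O) ≫ (O.ι ≫ (u ▷ G).left) ≫ σ.inv.left := by
      rw [Category.assoc, morphismRestrict_ι_assoc, ← Over.comp_left, ← Over.comp_left,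
        ← reassoc_of% hcomm, σ.hom_inv_id, Category.comp_id]
    rw [e, P.cancel_left_of_respectsIso, P.cancel_right_of_respectsIso]
    exact hO
  obtain ⟨w, hw⟩ := hW
  obtain ⟨r, hr1, hr2⟩ : ∃ r : (G ⊗ G).left, (fst G G).left r = x ∧ (snd G G).left r = w :=
    Scheme.Pullback.exists_preimage_pullback (f := G.hom) (g := G.hom) x w (Subsingleton.elim _ _)
  let t := lift (fst G G) (fst G G * (snd G G)⁻¹)
  have hap : ∀ {A B C : Over S} (f : A ⟶ B) (g : B ⟶ C) (p : A.left), (f ≫ g).left p = g.left (f.left p) :=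
    fun f g p => by rw [Over.comp_left, Scheme.Hom.comp_apply]
  refine ⟨t.left r, by rw [← hap, lift_fst, hr1], V, ?_, hV⟩
  show (fst G G).left (τ.hom.left (t.left r)) ∈ W
  rw [← hap, ← hap, show t ≫ τ.hom ≫ fst G G = snd G G by
    simp [t, τ, MonObj.comp_mul, GrpObj.comp_inv], hr2]
  exact hw

/-- A property local on the source may be checked on neighbourhoods of all points. -/
theorem of_forall_nhd (P : MorphismProperty Scheme.{u}) [IsZariskiLocalAtSource P] {X Y : Scheme.{u}} (f : X ⟶ Y)
    (h : ∀ x : X, ∃ V : X.Opens, x ∈ V ∧ P (V.ι ≫ f)) : P f := by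
  choose V hxV hV using h
  rw [IsZariskiLocalAtSource.iff_of_openCover (P := P)
    (X.openCoverOfIsOpenCover V (TopologicalSpace.IsOpenCover.mk (eq_top_iff.2 fun x _ =>
      TopologicalSpace.Opens.mem_iSup.2 ⟨x, hxV x⟩)))]
  exact hV

variable [Flat G.hom] [LocallyOfFinitePresentation G.hom]

omit [Subsingleton S] [GrpObj G] [GrpObj H] [IsMonHom u] in
theorem flat_fst : Flat (fst H G).left ∧ LocallyOfFinitePresentation (fst H G).left :=
  ⟨by dsimp; infer_instance, by dsimp; infer_instance⟩

include hW in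
theorem lfp_of_open (hl : LocallyOfFinitePresentation (W.ι ≫ u.left)) : LocallyOfFinitePresentation u.left := by
  refine of_forall_nhd @LocallyOfFinitePresentation u.left fun x => ?_
  obtain ⟨v, hv, V, hvV, hV⟩ := exists_nhd u W hW @LocallyOfFinitePresentation hl x
  haveI := (flat_fst (H := G) (G := G)).1
  haveI := (flat_fst (H := G) (G := G)).2
  haveI := (flat_fst (H := H) (G := G)).2
  let p : (V : Scheme) ⟶ G.left := V.ι ≫ (fst G G).left
  let R : G.left.Opens := ⟨Set.range p, p.isOpenMap.isOpen_range⟩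
  refine ⟨R, ⟨⟨v, hvV⟩, hv⟩, ?_⟩
  haveI : Surjective (p ∣_ R) := ⟨fun ⟨y, ⟨z, hz⟩⟩ => ⟨⟨z, ⟨z, rfl⟩⟩, by
    refine R.ι.isOpenEmbedding.injective ?_
    rw [← Scheme.Hom.comp_apply, morphismRestrict_ι, Scheme.Hom.comp_apply]
    exact hz⟩⟩
  haveI : LocallyOfFinitePresentation ((p ∣_ R) ≫ R.ι ≫ u.left) := by
    have hw : (fst G G).left ≫ u.left = (u ▷ G).left ≫ (fst H G).left := by
      rw [← Over.comp_left, ← Over.comp_left, whiskerRight_fst]
    rw [← Category.assoc, morphismRestrict_ι]
    simp only [p, Category.assoc, hw]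
    haveI := hV
    rw [← Category.assoc V.ι]
    infer_instance
  exact FppfSource.locallyOfFinitePresentation_of_fppf_comp (p ∣_ R) (R.ι ≫ u.left)

include hW in
theorem formallyUnramified_of_open [LocallyOfFiniteType u.left] (hu : FormallyUnramified (W.ι ≫ u.left)) :
    FormallyUnramified u.left := by
  refine of_forall_nhd @FormallyUnramified u.left fun x => ?_
  obtain ⟨v, hv, V, hvV, hV⟩ := exists_nhd u W hW @FormallyUnramified hu x
  haveI : Flat ((Over.forget S).map (fst H G)) := (flat_fst (H := H) (G := G)).1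
  haveI : LocallyOfFiniteType ((Over.forget S).map u) := ‹LocallyOfFiniteType u.left›
  rw [← hv]
  exact Descend.unramified_nhd_of_flat_baseChange ((AbRigid.isPullback_whiskerRight u G).map (Over.forget S))
    v ⟨V, hvV, hV⟩

include hW in
theorem smooth_of_open (hu : Smooth (W.ι ≫ u.left)) : Smooth u.left := by
  haveI := lfp_of_open u W hW inferInstance
  refine of_forall_nhd @Smooth u.left fun x => ?_
  obtain ⟨v, hv, V, hvV, hV⟩ := exists_nhd u W hW @Smooth hu x
  haveI : Flat ((Over.forget S).map (fst H G)) := (flat_fst (H := H) (G := G)).1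
  haveI : LocallyOfFinitePresentation ((Over.forget S).map u) := ‹LocallyOfFinitePresentation u.left›
  rw [← hv]
  exact Descend.smooth_nhd_of_baseChange_flatAt ((AbRigid.isPullback_whiskerRight u G).map (Over.forget S))
    v (Flat.stalkMap _ _) ⟨V, hvV, hV⟩

include hW in
theorem etale_of_open (hu : Etale (W.ι ≫ u.left)) : Etale u.left := by
  haveI := lfp_of_open u W hW inferInstance
  refine of_forall_nhd @Etale u.left fun x => ?_
  obtain ⟨v, hv, V, hvV, hV⟩ := exists_nhd u W hW @Etale hu x
  haveI : Flat ((Over.forget S).map (fst H G)) := (flat_fst (H := H) (G := G)).1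
  haveI : LocallyOfFinitePresentation ((Over.forget S).map u) := ‹LocallyOfFinitePresentation u.left›
  rw [← hv]
  exact Descend.etale_nhd_of_flat_baseChange ((AbRigid.isPullback_whiskerRight u G).map (Over.forget S))
    v ⟨V, hvV, hV⟩

omit [Flat G.hom] [LocallyOfFinitePresentation G.hom] in
include hW in
theorem locallyQuasiFinite_of_open [LocallyOfFiniteType u.left] (hu : LocallyQuasiFinite (W.ι ≫ u.left)) :
    LocallyQuasiFinite u.left := by
  have sq := (AbRigid.isPullback_whiskerRight u G).map (Over.forget S)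
  haveI : LocallyOfFiniteType ((Over.forget S).map u) := ‹LocallyOfFiniteType u.left›
  haveI : LocallyOfFiniteType ((Over.forget S).map (u ▷ G)) := MorphismProperty.of_isPullback sq ‹_›
  have hq : ∀ x : G.left, u.left.QuasiFiniteAt x := by
    intro x
    obtain ⟨v, hv, V, hvV, hV⟩ := exists_nhd u W hW @LocallyQuasiFinite hu x
    have h1 : ((Over.forget S).map (u ▷ G)).QuasiFiniteAt v := by
      haveI := hV
      exact (Scheme.Hom.quasiFiniteAt_comp_iff_of_isOpenImmersion (f := V.ι) (x := (⟨v, hvV⟩ : V.toScheme))).1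
        ((V.ι ≫ (u ▷ G).left).quasiFiniteAt _)
    rw [← hv]
    have h2 := (FibDim14.fibreDimAt_eq_zero_iff _ v).2 h1
    rw [FibDim14.fibreDimAt_baseChange sq v] at h2
    exact (FibDim14.fibreDimAt_eq_zero_iff _ _).1 h2
  rw [locallyQuasiFinite_iff_isDiscrete_preimage_singleton]
  intro y
  rw [isDiscrete_iff_discreteTopology, discreteTopology_iff_isOpen_singleton]
  rintro ⟨x, rfl⟩
  have h := Scheme.Hom.quasiFiniteAt_iff_isOpen_singleton_asFiber.1 (hq x)
  rw [← (u.left.fiberHomeo (u.left x)).isOpen_image] at h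
  simp only [Set.image_singleton, Scheme.Hom.asFiber, Homeomorph.apply_symm_apply] at h
  exact h

end Groth.Agent.GrpAtPt20
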