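import Groth.Agent.Lib.AbRigid.Shear
import Groth.Agent.Lib.AbRigid.Isogeny
import Groth.Agent.Lib.AlgGrpBasic19.Basic
import Groth.Agent.Lib.H12.FlatComp
import Groth.Prelude.Def_AlgGrp

/-!
# Orbit maps and homomorphisms which are flat at a point, over a one-point base
-/

universe u

open CategoryTheory Limits MonoidalCategory CartesianMonoidalCategory AlgebraicGeometry
open scoped MonObj GrpObj

set_option linter.style.haveILetI false
set_option backward.isDefEq.respectTransparency false

namespace Groth.Agent.GrpAtPt20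

variable {S : Scheme.{u}} [Subsingleton S]

/-- An orbit map of a flat group over a one-point base which is flat at one point is flat. -/
theorem flat_orbitMap (G X : Over S) [GrpObj G] [Flat G.hom] (a : AlgGrp.Action G X) (s₀ : 𝟙_ (Over S) ⟶ X)
    (ξ : G.left) (hξ : ((a.orbitMap s₀).left.stalkMap ξ).hom.Flat) : Flat (a.orbitMap s₀).left := by
  let φ := a.orbitMap s₀
  let U : Over S := Over.mk (G.left.fromSpecStalk ξ ≫ G.hom)
  let j : U ⟶ G := Over.homMk (G.left.fromSpecStalk ξ) rfl
  haveI hj : Flat j.left := AbRigid.flat_fromSpecStalk ξ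
  haveI hjφ : Flat (j ≫ φ).left := by
    rw [Over.comp_left]
    show Flat (G.left.fromSpecStalk ξ ≫ φ.left)
    rw [← Scheme.SpecMap_stalkMap_fromSpecStalk]
    haveI : Flat (Spec.map (φ.left.stalkMap ξ)) := by
      rw [HasRingHomProperty.Spec_iff (P := @Flat)]; exact hξ
    haveI := AbRigid.flat_fromSpecStalk (φ.left ξ)
    infer_instance
  haveI hGj : Flat (G ◁ j).left :=
    MorphismProperty.of_isPullback (P := @Flat) ((AbRigid.isPullback_whiskerLeft j G).map (Over.forget _)) hj
  haveI hGjφ : Flat (G ◁ (j ≫ φ)).left :=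
    MorphismProperty.of_isPullback (P := @Flat) ((AbRigid.isPullback_whiskerLeft (j ≫ φ) G).map (Over.forget _)) hjφ
  haveI hsnd : ∀ Y : Over S, Flat (snd G Y).left := fun Y => by dsimp; infer_instance
  have hflat : ∀ {A B : Over S} (e : A ≅ B), Flat e.hom.left := fun e => by
    haveI := e.isIso_hom
    haveI : IsIso e.hom.left := Functor.map_isIso (Over.forget S) e.hom
    infer_instance
  -- the shears
  let τ : G ⊗ G ≅ G ⊗ G :=
    { hom := lift (fst G G) (fst G G * snd G G)
      inv := lift (fst G G) ((fst G G)⁻¹ * snd G G)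
      hom_inv_id := by
        apply CartesianMonoidalCategory.hom_ext <;> simp [MonObj.comp_mul, GrpObj.comp_inv]
      inv_hom_id := by
        apply CartesianMonoidalCategory.hom_ext <;> simp [MonObj.comp_mul, GrpObj.comp_inv] }
  let σ : G ⊗ X ≅ G ⊗ X :=
    { hom := lift (fst G X) a.act
      inv := lift (fst G X) (lift (fst G X)⁻¹ (snd G X) ≫ a.act)
      hom_inv_id := by
        apply CartesianMonoidalCategory.hom_ext
        · simp
        · rw [Category.assoc, lift_snd, ← Category.assoc, comp_lift, GrpObj.comp_inv, lift_fst, lift_snd,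
            Category.id_comp]
          have e := (AlgGrpBasic19.act_mul a (fst G X)⁻¹ (fst G X) (snd G X)).symm
          rw [inv_mul_cancel, AlgGrpBasic19.act_one, lift_fst_snd, Category.id_comp] at e
          exact e
      inv_hom_id := by
        apply CartesianMonoidalCategory.hom_ext
        · simp
        · rw [Category.assoc, lift_snd, Category.id_comp]
          have e := (AlgGrpBasic19.act_mul a (fst G X) (fst G X)⁻¹ (snd G X)).symm
          rw [mul_inv_cancel, AlgGrpBasic19.act_one] at e
          have h3 : lift (fst G X) (lift (fst G X)⁻¹ (snd G X) ≫ a.act) ≫ a.act = snd G X := e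
          exact h3 }
  have hψ : (G ◁ j) ≫ μ[G] = (G ◁ j) ≫ τ.hom ≫ snd G G := by
    simp only [τ, lift_snd, Hom.mul_def, lift_fst_snd, Category.id_comp]
  haveI := hflat τ
  haveI := hflat σ
  haveI : Flat ((G ◁ j) ≫ μ[G]).left := by
    rw [hψ, Over.comp_left, Over.comp_left]
    haveI := hsnd G
    infer_instance
  haveI : Surjective ((G ◁ j) ≫ μ[G]).left := ⟨fun x => by
    obtain ⟨r, hr1, hr2⟩ : ∃ r : (G ⊗ G).left, (fst G G).left r = x ∧ (snd G G).left r = ξ :=
      Scheme.Pullback.exists_preimage_pullback (f := G.hom) (g := G.hom) x ξ (Subsingleton.elim _ _)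
    let t := lift (fst G G * (snd G G)⁻¹) (snd G G)
    have hap : ∀ {A B C : Over S} (f : A ⟶ B) (g : B ⟶ C) (p : A.left), (f ≫ g).left p = g.left (f.left p) :=
      fun f g p => by rw [Over.comp_left, Scheme.Hom.comp_apply]
    have ht : t.left r ∈ Set.range (G ◁ j).left := by
      have hr : (snd G G).left (t.left r) ∈ Set.range j.left := by
        rw [← hap, lift_snd, hr2]
        exact ⟨IsLocalRing.closedPoint _, Scheme.fromSpecStalk_closedPoint⟩
      obtain ⟨u, hu⟩ := hr
      obtain ⟨w, -, hw⟩ := Scheme.exists_preimage_of_isPullback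
        ((AbRigid.isPullback_whiskerLeft j G).map (Over.forget _)) u (t.left r) hu
      exact ⟨w, hw⟩
    obtain ⟨w, hw⟩ := ht
    refine ⟨w, ?_⟩
    rw [hap, hw, ← hap, ← Hom.mul_def, inv_mul_cancel_right]
    exact hr1⟩
  have hφ : ((G ◁ j) ≫ μ[G]) ≫ φ = (G ◁ (j ≫ φ)) ≫ σ.hom ≫ snd G X := by
    have h1 : μ[G] ≫ φ = lift (fst G G) (snd G G ≫ φ) ≫ a.act := by
      simp only [φ, AlgGrp.Action.orbitMap]
      rw [← Category.assoc, comp_lift, Category.comp_id, ← Category.assoc μ[G], comp_toUnit,
        show μ[G] = fst G G * snd G G by simp [Hom.mul_def], AlgGrpBasic19.act_mul,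
        ← Category.assoc (snd G G), comp_lift, Category.comp_id, ← Category.assoc (snd G G), comp_toUnit]
    have h2 : G ◁ φ = lift (fst G G) (snd G G ≫ φ) := by
      apply CartesianMonoidalCategory.hom_ext <;> simp
    simp only [σ, lift_snd, Category.assoc, MonoidalCategory.whiskerLeft_comp, h1, h2]
  haveI : Flat (((G ◁ j) ≫ μ[G]).left ≫ φ.left) := by
    rw [← Over.comp_left, hφ, Over.comp_left, Over.comp_left]
    haveI := hsnd X
    infer_instance
  exact H12.flat_of_comp_of_surjective ((G ◁ j) ≫ μ[G]).left φ.left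

/-- A homomorphism out of a flat group over a one-point base which is flat at one point is flat. -/
theorem flat_hom (G H : Over S) [GrpObj G] [GrpObj H] [Flat G.hom] (u : G ⟶ H) [IsMonHom u]
    (ξ : G.left) (hξ : (u.left.stalkMap ξ).hom.Flat) : Flat u.left := by
  let a : AlgGrp.Action G H :=
    { act := (fst G H ≫ u) * snd G H
      one_act := by
        rw [MonObj.comp_mul, ← Category.assoc, whiskerRight_fst, Category.assoc, IsMonHom.one_hom, whiskerRight_snd,
          show fst (𝟙_ (Over S)) H = toUnit _ from toUnit_unique _ _, ← Hom.one_def, one_mul]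
        exact (CartesianMonoidalCategory.leftUnitor_hom H).symm
      mul_act := by
        have hμ : μ[G] ≫ u = (fst G G ≫ u) * (snd G G ≫ u) := by
          rw [show μ[G] = fst G G * snd G G by simp [Hom.mul_def], MonObj.mul_comp]
        simp only [MonObj.comp_mul, ← Category.assoc, whiskerRight_fst, whiskerRight_snd]
        simp only [Category.assoc, hμ, whiskerLeft_snd, associator_hom_fst_assoc,
          associator_hom_snd_fst_assoc, associator_hom_snd_snd, MonObj.comp_mul, mul_assoc,
          whiskerLeft_fst] }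
  have ha : a.orbitMap η[H] = u := by
    simp only [a, AlgGrp.Action.orbitMap]
    rw [MonObj.comp_mul, ← Category.assoc, lift_fst, lift_snd, Category.id_comp, ← Hom.one_def, mul_one]
  have h := flat_orbitMap G H a η[H] ξ
  rw [ha] at h
  exact h hξ

end Groth.Agent.GrpAtPt20
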